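import Groth.Agent.AlgSpLib.Quotient
import Groth.Agent.AlgSpLib.SourceDesc
import Groth.Agent.LqfRep.Main
import Groth.Agent.EtInvariance.Quotient

/-!
# Scheme quotient of an affine étale scheme by a clopen étale equivalence relation
-/

universe u

open CategoryTheory CategoryTheory.Limits AlgebraicGeometry Opposite

set_option backward.isDefEq.respectTransparency false

namespace Groth.Agent.EtPieceQuot

open _root_.AlgSp Groth.Agent.AlgSpLib

variable {U U₁ : Scheme.{u}} (a : U₁ ⟶ U) (E : (pullback a a).Opens)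

/-- field-valued points related by `E` -/
def RelPt {K : Type u} [Field K] (x y : Spec (CommRingCat.of K) ⟶ U₁) : Prop :=
  ∃ h : x ≫ a = y ≫ a, ∀ p, pullback.lift x y h p ∈ E

theorem range_subset_of_relPt {T : Scheme.{u}} (l : T ⟶ pullback a a)
    (h : ∀ t : T, RelPt a E (T.fromSpecResidueField t ≫ l ≫ pullback.fst a a)
      (T.fromSpecResidueField t ≫ l ≫ pullback.snd a a)) :
    Set.range l ⊆ Set.range E.ι := by
  rintro _ ⟨t, rfl⟩
  obtain ⟨hc, hp⟩ := h t
  have e : pullback.lift _ _ hc = T.fromSpecResidueField t ≫ l := by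
    apply pullback.hom_ext
    · rw [pullback.lift_fst, Category.assoc]
    · rw [pullback.lift_snd, Category.assoc]
  have := hp (IsLocalRing.closedPoint _)
  rw [e] at this
  replace this : l (T.fromSpecResidueField t (IsLocalRing.closedPoint _)) ∈ E := this
  rw [T.fromSpecResidueField_apply t] at this
  rw [Scheme.Opens.range_ι]
  exact this

theorem exists_quotient [IsAffine U] [IsAffine U₁] [Etale a]
    (hclosed : IsClosed (E : Set ↥(pullback a a)))
    (hrefl : ∀ (K : Type u) [Field K] (x : Spec (CommRingCat.of K) ⟶ U₁), RelPt a E x x)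
    (hsymm : ∀ (K : Type u) [Field K] (x y : Spec (CommRingCat.of K) ⟶ U₁),
      RelPt a E x y → RelPt a E y x)
    (htrans : ∀ (K : Type u) [Field K] (x y z : Spec (CommRingCat.of K) ⟶ U₁),
      RelPt a E x y → RelPt a E y z → RelPt a E x z) :
    ∃ (Q : Scheme.{u}) (π : U₁ ⟶ Q) (b : Q ⟶ U), π ≫ b = a ∧ Etale b ∧ IsSeparated b ∧ Etale π ∧
      Surjective π ∧ IsPullback (E.ι ≫ pullback.fst a a) (E.ι ≫ pullback.snd a a) π π := by
  let T : Over U := Over.mk (𝟙 U)
  let V : Over U := Over.mk a
  let R : Over U := Over.mk ((E.ι ≫ pullback.fst a a) ≫ a)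
  let t : R ⟶ V := Over.homMk (E.ι ≫ pullback.fst a a) rfl
  let s : R ⟶ V := Over.homMk (E.ι ≫ pullback.snd a a) (by
    show (E.ι ≫ pullback.snd a a) ≫ a = (E.ι ≫ pullback.fst a a) ≫ a
    rw [Category.assoc, Category.assoc, pullback.condition])
  have hmk : ∀ {W : Over U} (x y : W ⟶ V),
      (∀ w : W.left, RelPt a E (W.left.fromSpecResidueField w ≫ x.left) (W.left.fromSpecResidueField w ≫ y.left)) →
      ∃ r : W ⟶ R, r ≫ t = x ∧ r ≫ s = y := by
    intro W x y h
    have hxy : x.left ≫ a = y.left ≫ a := (Over.w x).trans (Over.w y).symm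
    let l := pullback.lift x.left y.left hxy
    have hr := range_subset_of_relPt a E l (fun w => by
      rw [pullback.lift_fst, pullback.lift_snd]; exact h w)
    let r₀ : W.left ⟶ E := IsOpenImmersion.lift E.ι l hr
    have hr₀ : r₀ ≫ E.ι = l := IsOpenImmersion.lift_fac _ _ _
    refine ⟨Over.homMk r₀ ?_, ?_, ?_⟩
    · show r₀ ≫ (E.ι ≫ pullback.fst a a) ≫ a = W.hom
      rw [Category.assoc, reassoc_of% hr₀, pullback.lift_fst_assoc]
      exact Over.w x
    · apply Over.OverMorphism.ext
      show r₀ ≫ E.ι ≫ pullback.fst a a = x.left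
      rw [reassoc_of% hr₀, pullback.lift_fst]
    · apply Over.OverMorphism.ext
      show r₀ ≫ E.ι ≫ pullback.snd a a = y.left
      rw [reassoc_of% hr₀, pullback.lift_snd]
  have hrel : ∀ {W : Over U} (x y : W ⟶ V), (∃ r : W ⟶ R, r ≫ t = x ∧ r ≫ s = y) →
      ∀ w : W.left, RelPt a E (W.left.fromSpecResidueField w ≫ x.left) (W.left.fromSpecResidueField w ≫ y.left) := by
    rintro W x y ⟨r, hr₁, hr₂⟩ w
    have hxy : (W.left.fromSpecResidueField w ≫ x.left) ≫ a = (W.left.fromSpecResidueField w ≫ y.left) ≫ a :=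
      (Category.assoc _ _ _).trans ((congrArg (W.left.fromSpecResidueField w ≫ ·)
        ((Over.w x).trans (Over.w y).symm : x.left ≫ a = y.left ≫ a)).trans (Category.assoc _ _ _).symm)
    refine ⟨hxy, fun p => ?_⟩
    have e : pullback.lift (W.left.fromSpecResidueField w ≫ x.left) (W.left.fromSpecResidueField w ≫ y.left)
        hxy =
        (W.left.fromSpecResidueField w ≫ r.left) ≫ E.ι := by
      apply pullback.hom_ext
      · rw [pullback.lift_fst, ← hr₁]; simp [t]
      · rw [pullback.lift_snd, ← hr₂]; simp [s]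
    rw [e, Scheme.Hom.comp_apply]
    exact ((W.left.fromSpecResidueField w ≫ r.left) p).2
  have het : IsEtaleEqvRel s t := by
    refine { injective := ?_, equivalence := ?_, etale_left := ?_, etale_right := ?_ }
    · intro W r r' h₁ h₂
      apply Over.OverMorphism.ext
      rw [← cancel_mono E.ι]
      apply pullback.hom_ext
      · simpa [t, Category.assoc] using congrArg (fun k : W ⟶ V => k.left) h₁
      · simpa [s, Category.assoc] using congrArg (fun k : W ⟶ V => k.left) h₂
    · intro W
      exact ⟨fun x => hmk x x fun w => hrefl _ _,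
        fun {x y} h => hmk y x fun w => hsymm _ _ _ (hrel x y h w),
        fun {x y z} h h' => hmk x z fun w => htrans _ _ _ _ (hrel x y h w) (hrel y z h' w)⟩
    · show Etale (E.ι ≫ pullback.snd a a); infer_instance
    · show Etale (E.ι ≫ pullback.fst a a); infer_instance
  let p := quotProj s t
  have hc := isColimitQuotProj s t
  obtain ⟨hF, hP⟩ := isPresentation_of_coequalizer het hc
  obtain ⟨_, hpe, hps, sq⟩ := hP
  let VT : V ⟶ T := Over.homMk a (Category.comp_id a)
  let f : QuotSh.quot Scheme.fppfPrecoverage s t ⟶ (yon U).obj T :=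
    Cofork.IsColimit.desc hc ((yon U).map VT) (by
      rw [← Functor.map_comp, ← Functor.map_comp]
      congr 1
      apply Over.OverMorphism.ext
      show (E.ι ≫ pullback.fst a a) ≫ a = (E.ι ≫ pullback.snd a a) ≫ a
      rw [Category.assoc, Category.assoc, pullback.condition])
  have hf : p ≫ f = (yon U).map VT := Cofork.IsColimit.π_desc' hc _ _
  have hloc : LocP @Etale f := locP_of_comp_surjective etST_etale hF hpe hps (by
    rw [hf]
    exact (isEtaleMor_iff_locP (IsAlgSpace.yon_obj _)).1 ((isEtaleMor_yon_map_iff VT).2 ‹Etale a›))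
  have hfe : IsEtaleMor f := (isEtaleMor_iff_locP (IsAlgSpace.yon_obj _)).2 hloc
  have hsep : IsSeparatedMor f := by
    have hPf : IsAlgSpace (pullback f f) :=
      isAlgSpace_of_isPullback_space (IsAlgSpace.yon_obj _) hF hF (IsPullback.of_hasPullback f f)
    have hd := EtInvariance.repWith_openImm_diag hF (IsAlgSpace.yon_obj _) f hfe
    refine (repWith_isClosedImmersion_iff hPf (repWith_mono (P := @IsOpenImmersion) (Q := @IsImmersion)
      (fun _ _ g hg => have : IsOpenImmersion g := hg; inferInstance) hd)).2 ?_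
    let W : Over U := Over.mk (pullback.fst a a ≫ a)
    let w₁ : W ⟶ V := Over.homMk (pullback.fst a a) rfl
    let w₂ : W ⟶ V := Over.homMk (pullback.snd a a) pullback.condition.symm
    have sqW : IsPullback ((yon U).map w₁) ((yon U).map w₂) (p ≫ f) (p ≫ f) := by
      rw [hf]
      exact isPullback_yon_iff.2 (IsPullback.of_hasPullback a a)
    let m := pullback.lift (f := f) (g := p ≫ f) (pullback.fst (p ≫ f) (p ≫ f) ≫ p) (pullback.snd (p ≫ f) (p ≫ f))
      (by rw [Category.assoc, pullback.condition])
    let n := pullback.lift (f := f) (g := f) (pullback.fst f (p ≫ f)) (pullback.snd f (p ≫ f) ≫ p)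
      (by rw [Category.assoc, pullback.condition])
    have hm : IsPullback (pullback.fst (p ≫ f) (p ≫ f)) m p (pullback.fst f (p ≫ f)) :=
      IsPullback.of_bot (by simpa [m] using IsPullback.of_hasPullback (p ≫ f) (p ≫ f))
        (by simp [m]) (IsPullback.of_hasPullback f (p ≫ f))
    have hn : IsPullback n (pullback.snd f (p ≫ f)) (pullback.snd f f) p :=
      IsPullback.of_right (by simpa [n] using IsPullback.of_hasPullback f (p ≫ f))
        (by simp [n]) (IsPullback.of_hasPullback f f)
    let c : (yon U).obj W ⟶ pullback f f := sqW.isoPullback.hom ≫ m ≫ n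
    have hce : RepWith @Etale c := (repWith_iso_comp_iff _ _).2
      (repWith_comp (repWith_baseChange hm hpe) (repWith_baseChange hn.flip hpe))
    have hcs : RepWith @Surjective c := (repWith_iso_comp_iff _ _).2
      (repWith_comp (repWith_baseChange hm hps) (repWith_baseChange hn.flip hps))
    have hc₁ : c ≫ pullback.fst f f = (yon U).map w₁ ≫ p := by
      simp [c, m, n, IsPullback.isoPullback_hom_fst_assoc]
    have hc₂ : c ≫ pullback.snd f f = (yon U).map w₂ ≫ p := by
      simp [c, m, n, IsPullback.isoPullback_hom_snd_assoc]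
    let ιR : R ⟶ W := Over.homMk E.ι (by simp [W, R])
    have sqD : IsPullback ((yon U).map t ≫ p) ((yon U).map ιR) (pullback.diagonal f) c := by
      have hw : ((yon U).map t ≫ p) ≫ pullback.diagonal f = (yon U).map ιR ≫ c := by
        apply pullback.hom_ext
        · rw [Category.assoc, pullback.diagonal_fst, Category.comp_id, Category.assoc, hc₁,
            ← Category.assoc, ← Functor.map_comp]
          rfl
        · rw [Category.assoc, pullback.diagonal_snd, Category.comp_id, Category.assoc, hc₂,
            sq.w, ← Category.assoc, ← Functor.map_comp]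
          rfl
      have key : ∀ (k : PullbackCone (pullback.diagonal f) c),
          (k.snd ≫ (yon U).map w₁) ≫ p = (k.snd ≫ (yon U).map w₂) ≫ p := fun k => by
        rw [Category.assoc, Category.assoc, ← hc₁, ← hc₂, ← reassoc_of% k.condition, ← reassoc_of% k.condition,
          pullback.diagonal_fst, pullback.diagonal_snd]
      refine ⟨⟨hw⟩, ⟨PullbackCone.IsLimit.mk hw
        (fun k => sq.lift (k.snd ≫ (yon U).map w₁) (k.snd ≫ (yon U).map w₂) (key k)) ?_ ?_ ?_⟩⟩
      · intro k
        rw [← Category.assoc, sq.lift_fst, Category.assoc, ← hc₁, ← Category.assoc, ← k.condition]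
        simp
      · intro k
        apply sqW.hom_ext
        · rw [Category.assoc, ← Functor.map_comp, show ιR ≫ w₁ = t from rfl, sq.lift_fst]
        · rw [Category.assoc, ← Functor.map_comp, show ιR ≫ w₂ = s from rfl, sq.lift_snd]
      · intro k l _ h₂
        apply sq.hom_ext
        · rw [sq.lift_fst, ← h₂, Category.assoc, ← Functor.map_comp]; rfl
        · rw [sq.lift_snd, ← h₂, Category.assoc, ← Functor.map_comp]; rfl
    rw [← (isQuotientMap_ofPt hce hcs).isClosed_preimage]
    suffices hset : Points.ofPt c ⁻¹' Set.range (Points.map (pullback.diagonal f)) = ((E : Set ↥(pullback a a))) by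
      rw [hset]; exact hclosed
    ext x
    constructor
    · rintro ⟨y, hy⟩
      obtain ⟨z, -, hz⟩ := exists_point_of_isPullback sqD y (Points.ofScheme W x)
        (by rw [hy, Points.map_ofPt, Category.id_comp])
      obtain ⟨z, rfl⟩ := (Points.schemeEquiv R).surjective z
      have hzx : E.ι z = x := by
        apply (Points.schemeEquiv W).injective
        change Points.map ((yon U).map ιR) (Points.ofPt (𝟙 _) z) = _ at hz
        rw [Points.map_ofPt, Category.id_comp, ofScheme_map] at hz
        exact hz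
      rw [← hzx]
      exact z.2
    · intro hx
      refine ⟨Points.ofPt ((yon U).map t ≫ p) ⟨x, hx⟩, ?_⟩
      rw [Points.map_ofPt, sqD.w, ofPt_comp]
      rfl
  have hqc : IsQuasiCompactSp (QuotSh.quot Scheme.fppfPrecoverage s t) :=
    haveI : IsAffine V.left := ‹IsAffine U₁›
    isQuasiCompactSp_of_isSurjectiveMor hF p (isSurjectiveMor_of_repWith hps) (isQuasiCompactSp_yon V)
  haveI : IsAffine T.left := ‹IsAffine U›
  obtain ⟨Q, ⟨φ⟩⟩ := LqfRep.exists_iso_yon_of_qc hF f (fun A B a' b' k ha hb comm =>
    etST_lqf.of_etale _ (hloc a' b' k ha hb comm)) hsep hqc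
  obtain ⟨π, hπ⟩ := exists_map_eq (p ≫ φ.hom)
  obtain ⟨f', hf'⟩ := exists_map_eq (φ.inv ≫ f)
  have hπb : π.left ≫ Q.hom = a := Over.w π
  have hfQ : f'.left = Q.hom := by simpa [T] using Over.w f'
  have hπe : Etale π.left := (repWith_yon_iff π).1 (by rw [hπ]; exact (repWith_comp_iso_iff _ _).2 hpe)
  have hπs : Surjective π.left := (repWith_yon_iff π).1 (by rw [hπ]; exact (repWith_comp_iso_iff _ _).2 hps)
  refine ⟨Q.left, π.left, Q.hom, hπb, ?_, ?_, hπe, hπs, ?_⟩
  · have : Etale (π.left ≫ Q.hom) := by rw [hπb]; infer_instance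
    exact SrcDesc.etale π.left Q.hom
  · rw [← hfQ]
    refine (repWith_yon_iff f').1 ((isSeparatedMor_iff_repWith (IsAlgSpace.yon_obj _) (IsAlgSpace.yon_obj _)
      (Functor.relativelyRepresentable.of_diag (IsAlgSpace.yon_obj T).diag _)).1 ?_)
    rw [hf']
    exact isSeparatedMor_comp (LqfRep.isSeparatedMor_of_mono _) hsep
  · refine (isPullback_yon_iff (f := π) (g := π) (p := t) (q := s)).1 ?_
    rw [hπ]
    exact sq.of_iso (Iso.refl _) (Iso.refl _) (Iso.refl _) φ (by simp) (by simp) (by simp [p]) (by simp [p])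

end Groth.Agent.EtPieceQuot
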